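import Groth.Agent.GenSub.Basic
import Groth.Agent.VarietyBC.Components
import Groth.Agent.AlgGrp1.Geom

/-!
The family of words in a morphism to a group scheme.
-/

set_option autoImplicit false
set_option backward.isDefEq.respectTransparency false

universe u

open CategoryTheory Limits MonoidalCategory CartesianMonoidalCategory MonObj AlgebraicGeometry
  TopologicalSpace

noncomputable section

namespace Groth.GenSub

variable {k : Type u} [Field k] {G X : Over (Spec (CommRingCat.of k))} [GrpObj G] (f : X ⟶ G)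

/-- Sources of words. -/
def word (X : Over (Spec (CommRingCat.of k))) : List Bool → Over (Spec (CommRingCat.of k))
  | [] => 𝟙_ _
  | _ :: l => X ⊗ word X l

/-- Words in `f` and its inverse. -/
def wordMap : ∀ l : List Bool, word X l ⟶ G
  | [] => 1
  | b :: l => (fst X (word X l) ≫ if b then f else f⁻¹) * (snd X (word X l) ≫ wordMap l)

omit f in
theorem cons_mul {W₁ W₂ W : Over (Spec (CommRingCat.of k))} (c : X ⟶ G) (a : W₁ ⟶ G) (b : W₂ ⟶ G)
    (w : W ⟶ G) (m : W₁ ⊗ W₂ ⟶ W) (hm : m ≫ w = (fst _ _ ≫ a) * (snd _ _ ≫ b)) :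
    ∃ m' : (X ⊗ W₁) ⊗ W₂ ⟶ X ⊗ W, m' ≫ ((fst X W ≫ c) * (snd X W ≫ w)) =
      (fst _ _ ≫ ((fst X W₁ ≫ c) * (snd X W₁ ≫ a))) * (snd _ _ ≫ b) := by
  refine ⟨lift (fst _ _ ≫ fst X W₁) (lift (fst _ _ ≫ snd X W₁) (snd _ _) ≫ m), ?_⟩
  simp only [MonObj.comp_mul, lift_fst_assoc, lift_snd_assoc, Category.assoc, hm, _root_.mul_assoc]

theorem word_mul (a b : List Bool) : ∃ m : word X a ⊗ word X b ⟶ word X (a ++ b),
    m ≫ wordMap f (a ++ b) = (fst _ _ ≫ wordMap f a) * (snd _ _ ≫ wordMap f b) := by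
  induction a with
  | nil => exact ⟨snd _ _, by simp [wordMap, word]⟩
  | cons x a ih =>
    obtain ⟨m, hm⟩ := ih
    exact cons_mul (if x then f else f⁻¹) (wordMap f a) (wordMap f b) (wordMap f (a ++ b)) m hm

omit f in
theorem cons_inv {W W' W'' : Over (Spec (CommRingCat.of k))} (c : X ⟶ G) (a : W ⟶ G) (a' : W' ⟶ G)
    (v : W ⟶ W') (hv : v ≫ a' = a⁻¹) (w : W'' ⟶ G) (m : W' ⊗ (X ⊗ 𝟙_ _) ⟶ W'')
    (hm : m ≫ w = (fst _ _ ≫ a') * (snd _ _ ≫ ((fst X (𝟙_ _) ≫ c⁻¹) * (snd X (𝟙_ _) ≫ 1)))) :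
    ∃ v' : X ⊗ W ⟶ W'', v' ≫ w = ((fst X W ≫ c) * (snd X W ≫ a))⁻¹ := by
  refine ⟨lift (snd X W ≫ v) (lift (fst X W) (toUnit _)) ≫ m, ?_⟩
  simp only [Category.assoc, hm, MonObj.comp_mul, GrpObj.comp_inv, lift_fst_assoc, lift_snd_assoc, hv,
    MonObj.comp_one, _root_.mul_one, _root_.mul_inv_rev]

theorem word_inv (a : List Bool) : ∃ (b : List Bool) (v : word X a ⟶ word X b),
    v ≫ wordMap f b = (wordMap f a)⁻¹ := by
  induction a with
  | nil => exact ⟨[], 𝟙 _, by simp [wordMap]⟩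
  | cons x a ih =>
    obtain ⟨b, v, hv⟩ := ih
    obtain ⟨m, hm⟩ := word_mul f b [!x]
    refine ⟨b ++ [!x], cons_inv (if x then f else f⁻¹) (wordMap f a) (wordMap f b) v hv
      (wordMap f (b ++ [!x])) m ?_⟩
    rw [hm]
    have e : (if (!x) then f else f⁻¹) = (if x then f else f⁻¹)⁻¹ := by cases x <;> simp
    rw [← e]
    rfl

theorem stable : Stable G (word X) (wordMap f) where
  one := ⟨[], 𝟙 _, by simp [wordMap]⟩
  mul a b := ⟨a ++ b, word_mul f a b⟩
  inv a := word_inv f a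

theorem geometricallyReduced_word [GeometricallyReduced X.hom] :
    ∀ l : List Bool, GeometricallyReduced (word X l).hom
  | [] => ⟨fun K _ χ Z p q h => by
      haveI : IsIso (word X ([] : List Bool)).hom := inferInstanceAs (IsIso (𝟙 _))
      haveI : IsIso q := h.isIso_snd_of_isIso
      exact isReduced_of_isOpenImmersion q⟩
  | _ :: l => by
      have := geometricallyReduced_word l
      exact geometricallyReduced_tensor X (word X l)

/-- Every word factors through a subgroup containing `f`. -/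
theorem word_factor {Z : Over (Spec (CommRingCat.of k))} [GrpObj Z] (z : Z ⟶ G) [IsMonHom z]
    (hf : ∃ t : X ⟶ Z, t ≫ z = f) : ∀ l : List Bool, ∃ t : word X l ⟶ Z, t ≫ z = wordMap f l
  | [] => ⟨1, by simp [wordMap]⟩
  | x :: l => by
      obtain ⟨t, ht⟩ := word_factor z hf l
      obtain ⟨s, hs⟩ := hf
      refine ⟨(fst X (word X l) ≫ if x then s else s⁻¹) * (snd X (word X l) ≫ t), ?_⟩
      rw [MonObj.mul_comp, Category.assoc, Category.assoc, ht]
      show _ = (fst X (word X l) ≫ if x then f else f⁻¹) * _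
      congr 2
      cases x <;> simp [GrpObj.inv_comp, hs]

/-- The generated subgroup. -/
theorem exists_generated [GeometricallyReduced X.hom] :
    ∃ (Γ : Over (Spec (CommRingCat.of k))) (_ : GrpObj Γ) (i : Γ ⟶ G) (d : ∀ l, word X l ⟶ Γ),
      IsMonHom i ∧ IsClosedImmersion i.left ∧ GeometricallyReduced Γ.hom ∧ (∀ l, d l ≫ i = wordMap f l) ∧
      Dense (⋃ l, Set.range (d l).left) ∧ (∃ f' : X ⟶ Γ, f' ≫ i = f) ∧
      ∀ (Γ' : Over (Spec (CommRingCat.of k))) (_ : GrpObj Γ') (i' : Γ' ⟶ G), IsMonHom i' →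
        IsClosedImmersion i'.left → (∃ f'' : X ⟶ Γ', f'' ≫ i' = f) → ∃ j : Γ ⟶ Γ', j ≫ i' = i := by
  obtain ⟨Γ, inst, i, d, h1, h2, h3, h4, h5, h6⟩ :=
    exists_closure G (word X) (wordMap f) geometricallyReduced_word (stable f)
  refine ⟨Γ, inst, i, d, h1, h2, h3, h4, h5, ⟨lift (𝟙 X) (toUnit X) ≫ d [true], ?_⟩,
    fun Γ' _ i' _ hc hf' => h6 Γ' i' hc (word_factor f i' hf')⟩
  rw [Category.assoc, h4]
  show lift (𝟙 X) (toUnit X) ≫ ((fst X (𝟙_ _) ≫ f) * (snd X (𝟙_ _) ≫ 1)) = f
  simp [MonObj.comp_mul]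

/-- A connected scheme over a field with a rational point is geometrically connected. -/
theorem geometricallyConnected_of_point [ConnectedSpace X.left] (x : 𝟙_ (Over (Spec (CommRingCat.of k))) ⟶ X) :
    GeometricallyConnected X.hom := by
  letI : X.left.Over (Spec (CommRingCat.of k)) := ⟨X.hom⟩
  have hc : ConnectedSpace (Curv2.bc k X.left (SeparableClosure k)) :=
    Groth.AlgGrp1.connectedSpace_pullback_of_isIntegral X.hom x.left (Over.w x)
  exact Groth.VarietyBC.geometricallyConnected_of_connectedSpace_bc (k := k) (X := X.left) (SeparableClosure k)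

theorem connectedSpace_word [GeometricallyConnected X.hom] :
    ∀ l : List Bool, ConnectedSpace (word X l).left
  | [] => by
      have : Subsingleton ↥(Spec (CommRingCat.of k)) := inferInstance
      exact inferInstanceAs (ConnectedSpace ↥(Spec (CommRingCat.of k)))
  | _ :: l => by
      have := connectedSpace_word l
      have := Groth.DescentBase.universallyOpen_of_field k X.hom
      exact inferInstanceAs (ConnectedSpace ↥(pullback X.hom (word X l).hom))

/-- Words at a point mapped to the identity. -/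
theorem word_unit (x : 𝟙_ (Over (Spec (CommRingCat.of k))) ⟶ X) (hx : x ≫ f = 1) :
    ∀ l : List Bool, ∃ w : 𝟙_ (Over (Spec (CommRingCat.of k))) ⟶ word X l, w ≫ wordMap f l = 1
  | [] => ⟨𝟙 _, by simp [wordMap]⟩
  | b :: l => by
      obtain ⟨w, hw⟩ := word_unit x hx l
      refine ⟨lift x w, ?_⟩
      show lift x w ≫ ((fst X (word X l) ≫ if b then f else f⁻¹) * (snd X (word X l) ≫ wordMap f l)) = 1
      rw [MonObj.comp_mul, lift_fst_assoc, lift_snd_assoc, hw, _root_.mul_one]
      cases b <;> simp [GrpObj.comp_inv, hx]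

end Groth.GenSub
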