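import Groth.Agent.AlgGrp1.GeomRedDense
import Groth.Agent.AlgGrp1.Basic
import Groth.Agent.AlgGrp2.Basic
import Groth.Agent.Agf.SubobjGrp
import Groth.Agent.BMCoh.Piece
import Groth.Agent.DescentBase.GeomReduced
import Groth.Agent.DescentBase.UnivOpenField
import Groth.Agent.GitQuot.GrpdImage

/-!
The closed subgroup scheme generated by a family of morphisms from geometrically reduced schemes.
-/

set_option autoImplicit false
set_option backward.isDefEq.respectTransparency false

universe u v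

open CategoryTheory Limits MonoidalCategory CartesianMonoidalCategory MonObj AlgebraicGeometry
  TopologicalSpace

namespace Groth.GenSub

variable {k : Type u} [Field k]

theorem geometricallyReduced_tensor (X Y : Over (Spec (CommRingCat.of k))) [GeometricallyReduced X.hom]
    [GeometricallyReduced Y.hom] : GeometricallyReduced (X ⊗ Y).hom :=
  Groth.DescentBase.geometricallyReduced_pullback X.hom Y.hom

theorem isReduced_tensor (X Y : Over (Spec (CommRingCat.of k))) [GeometricallyReduced X.hom]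
    [IsReduced Y.left] : IsReduced (X ⊗ Y).left :=
  Groth.DescentBase.isReduced_pullback_of_geometricallyReduced X.hom Y.hom

/-- Products of dense families are dense. -/
theorem dense_tensor {X Y : Over (Spec (CommRingCat.of k))} {I : Type v}
    {A B : I → Over (Spec (CommRingCat.of k))} (d : ∀ a, A a ⟶ X) (e : ∀ b, B b ⟶ Y)
    (hd : Dense (⋃ a, Set.range (d a).left)) (he : Dense (⋃ b, Set.range (e b).left)) :
    Dense (⋃ p : I × I, Set.range (d p.1 ⊗ₘ e p.2).left) := by
  have hX := Groth.DescentBase.universallyOpen_of_field k X.hom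
  have hY := Groth.DescentBase.universallyOpen_of_field k Y.hom
  have hA : ∀ a, UniversallyOpen (A a).hom := fun a => Groth.DescentBase.universallyOpen_of_field k _
  have h1 : Dense ((fst X Y).left ⁻¹' ⋃ a, Set.range (d a).left) := by
    have : UniversallyOpen (fst X Y).left := MorphismProperty.pullback_fst _ _ hY
    exact hd.preimage (fst X Y).left.isOpenMap
  refine dense_closure.1 (h1.mono ?_)
  rintro z hz
  obtain ⟨a, w, hw⟩ := Set.mem_iUnion.1 hz
  obtain ⟨p, hp, -⟩ := Scheme.exists_preimage_of_isPullback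
    (AlgGrp2.isPullback_whiskerRight_fst Y (d a)) z w hw.symm
  have : UniversallyOpen (snd (A a) Y).left := MorphismProperty.pullback_snd _ _ (hA a)
  have h2 : Dense ((snd (A a) Y).left ⁻¹' ⋃ b, Set.range (e b).left) := he.preimage (snd (A a) Y).left.isOpenMap
  have h3 : (d a ▷ Y).left '' ((snd (A a) Y).left ⁻¹' ⋃ b, Set.range (e b).left) ⊆
      ⋃ p : I × I, Set.range (d p.1 ⊗ₘ e p.2).left := by
    rintro _ ⟨q, hq, rfl⟩
    obtain ⟨b, w', hw'⟩ := Set.mem_iUnion.1 hq
    obtain ⟨r, hr, -⟩ := Scheme.exists_preimage_of_isPullback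
      (AlgGrp2.isPullback_whiskerLeft_snd (A a) (e b)) q w' hw'.symm
    refine Set.mem_iUnion.2 ⟨(a, b), r, ?_⟩
    rw [← hr, ← Scheme.Hom.comp_apply, ← Over.comp_left, MonoidalCategory.tensorHom_def']
  rw [← hp]
  exact closure_mono h3 (image_closure_subset_closure_image (d a ▷ Y).left.continuous
    ⟨p, h2.closure_eq ▸ Set.mem_univ p, rfl⟩)

/-- Two maps from a reduced scheme to a separated one which agree on a dense family agree. -/
theorem ext_of_dense {X Z : Over (Spec (CommRingCat.of k))} [IsReduced X.left] [IsSeparated Z.hom]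
    {I : Type v} {A : I → Over (Spec (CommRingCat.of k))} (d : ∀ a, A a ⟶ X)
    (hd : Dense (⋃ a, Set.range (d a).left)) {f g : X ⟶ Z} (h : ∀ a, d a ≫ f = d a ≫ g) : f = g := by
  let c := pullback.fst (lift f g).left (lift (𝟙 Z) (𝟙 Z)).left
  have hΔ : IsClosedImmersion (lift (𝟙 Z) (𝟙 Z)).left := by
    have e : (lift (𝟙 Z) (𝟙 Z)).left = pullback.diagonal Z.hom := by
      apply pullback.hom_ext <;> simp
    rw [e]
    exact IsSeparated.isClosedImmersion_diagonal
  have hc : IsClosedImmersion c := MorphismProperty.pullback_fst _ _ hΔ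
  have : Surjective c := by
    refine ⟨fun x => ?_⟩
    have hsub : (⋃ a, Set.range (d a).left) ⊆ Set.range c := by
      refine Set.iUnion_subset fun a => ?_
      rintro _ ⟨z, rfl⟩
      let l : (A a).left ⟶ pullback (lift f g).left (lift (𝟙 Z) (𝟙 Z)).left :=
        pullback.lift (d a).left (d a ≫ f).left (by
          rw [← Over.comp_left, ← Over.comp_left, comp_lift, comp_lift, Category.comp_id, h a])
      exact ⟨l z, by rw [← Scheme.Hom.comp_apply, pullback.lift_fst]⟩
    exact closure_minimal hsub c.isClosedEmbedding.isClosed_range (hd x)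
  have : IsIso c := isIso_of_isClosedImmersion_of_surjective c
  have hw : (lift f g).left = (inv c ≫ pullback.snd _ _) ≫ (lift (𝟙 Z) (𝟙 Z)).left := by
    rw [Category.assoc, ← pullback.condition, IsIso.inv_hom_id_assoc]
  ext1
  have h1 : (lift f g).left ≫ (fst Z Z).left = f.left := by rw [← Over.comp_left, lift_fst]
  have h2 : (lift f g).left ≫ (snd Z Z).left = g.left := by rw [← Over.comp_left, lift_snd]
  rw [← h1, ← h2, hw, Category.assoc _ _ (fst Z Z).left, Category.assoc _ _ (snd Z Z).left,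
    ← Over.comp_left, ← Over.comp_left, lift_fst, lift_snd]

variable (G : Over (Spec (CommRingCat.of k))) [GrpObj G] {I : Type v}
  (Y : I → Over (Spec (CommRingCat.of k))) (g : ∀ j, Y j ⟶ G)

/-- A family of morphisms closed under the group operations. -/
structure Stable : Prop where
  one : ∃ (l : I) (e : 𝟙_ (Over (Spec (CommRingCat.of k))) ⟶ Y l), e ≫ g l = 1
  mul : ∀ a b, ∃ (l : I) (m : Y a ⊗ Y b ⟶ Y l), m ≫ g l = (fst _ _ ≫ g a) * (snd _ _ ≫ g b)
  inv : ∀ a, ∃ (l : I) (v : Y a ⟶ Y l), v ≫ g l = (g a)⁻¹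

/-- The reduced closure of a stable geometrically reduced family is a subgroup. -/
theorem exists_closure (hY : ∀ j, GeometricallyReduced (Y j).hom) (hS : Stable G Y g) :
    ∃ (Γ : Over (Spec (CommRingCat.of k))) (_ : GrpObj Γ) (i : Γ ⟶ G) (d : ∀ j, Y j ⟶ Γ),
      IsMonHom i ∧ IsClosedImmersion i.left ∧ GeometricallyReduced Γ.hom ∧ (∀ j, d j ≫ i = g j) ∧
      Dense (⋃ j, Set.range (d j).left) ∧
      ∀ (Z : Over (Spec (CommRingCat.of k))) (z : Z ⟶ G), IsClosedImmersion z.left →
        (∀ j, ∃ t : Y j ⟶ Z, t ≫ z = g j) → ∃ t : Γ ⟶ Z, t ≫ z = i := by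
  let C : Closeds G.left := ⟨closure (⋃ j, Set.range (g j).left), isClosed_closure⟩
  let J := Scheme.IdealSheafData.vanishingIdeal C
  let Γ : Over (Spec (CommRingCat.of k)) := Over.mk (J.subschemeι ≫ G.hom)
  let i : Γ ⟶ G := Over.homMk J.subschemeι rfl
  have hred : IsReduced Γ.left := Groth.BMCohLib.isReduced_vanishingIdeal C
  have hi : IsClosedImmersion i.left := inferInstanceAs (IsClosedImmersion J.subschemeι)
  have hrange : Set.range i.left = (C : Set G.left) := J.range_subschemeι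
  have : Mono i := Over.mono_of_mono_left i
  have hlift : ∀ {W : Over (Spec (CommRingCat.of k))} [IsReduced W.left] (φ : W ⟶ G),
      Set.range φ.left ⊆ (C : Set G.left) → ∃ t : W ⟶ Γ, t ≫ i = φ := by
    intro W _ φ h
    obtain ⟨t, ht⟩ := Groth.GrpdImage.exists_factor_of_range_subset i.left φ.left (hrange.symm ▸ h)
    exact ⟨Over.homMk t (by rw [← Over.w i, ← Category.assoc, ht, Over.w]), Over.OverMorphism.ext ht⟩
  have hYr : ∀ j, IsReduced (Y j).left := fun j =>
    GeometricallyReduced.geometrically_isReduced (f := (Y j).hom) (𝟙 _) (𝟙 _) (Y j).hom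
      (IsPullback.of_horiz_isIso ⟨by simp⟩)
  choose d hd using fun j => hlift (g j) ((Set.subset_iUnion (fun j => Set.range (g j).left) j).trans subset_closure)
  have hdense : Dense (⋃ j, Set.range (d j).left) := by
    refine fun x => i.left.isClosedEmbedding.isInducing.closure_eq_preimage_closure_image _ ▸ ?_
    show i.left x ∈ closure (i.left '' ⋃ j, Set.range (d j).left)
    have : i.left '' (⋃ j, Set.range (d j).left) = ⋃ j, Set.range (g j).left := by
      rw [Set.image_iUnion]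
      refine Set.iUnion_congr fun j => ?_
      rw [← Set.range_comp, ← hd j]
      rfl
    rw [this]
    exact hrange.le ⟨x, rfl⟩
  have hgeo : GeometricallyReduced Γ.hom :=
    Groth.AlgGrp1.geometricallyReduced_of_family Γ Y d hY hdense
  obtain ⟨l₀, e, he⟩ := hS.one
  have hone : ∃ t : 𝟙_ (Over (Spec (CommRingCat.of k))) ⟶ Γ, t ≫ i = 1 :=
    ⟨e ≫ d l₀, by rw [Category.assoc, hd, he]⟩
  have hmul : ∃ t : Γ ⊗ Γ ⟶ Γ, t ≫ i = (fst Γ Γ ≫ i) * (snd Γ Γ ≫ i) := by
    have := isReduced_tensor Γ Γ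
    refine hlift _ ?_
    rintro _ ⟨x, rfl⟩
    refine closure_minimal ?_ (C.2.preimage ((fst Γ Γ ≫ i) * (snd Γ Γ ≫ i)).left.continuous)
      (dense_tensor d d hdense hdense x)
    refine Set.iUnion_subset fun p => ?_
    rintro _ ⟨w, rfl⟩
    obtain ⟨l, m, hm⟩ := hS.mul p.1 p.2
    have e1 : (d p.1 ⊗ₘ d p.2) ≫ ((fst Γ Γ ≫ i) * (snd Γ Γ ≫ i)) = m ≫ g l := by
      rw [hm, MonObj.comp_mul, tensorHom_fst_assoc, tensorHom_snd_assoc, hd, hd]
    show ((fst Γ Γ ≫ i) * (snd Γ Γ ≫ i)).left ((d p.1 ⊗ₘ d p.2).left w) ∈ (C : Set G.left)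
    rw [← Scheme.Hom.comp_apply, ← Over.comp_left, e1, Over.comp_left, Scheme.Hom.comp_apply]
    exact subset_closure (Set.mem_iUnion.2 ⟨l, _, rfl⟩)
  have hinv : ∃ t : Γ ⟶ Γ, t ≫ i = i⁻¹ := by
    refine hlift _ ?_
    rintro _ ⟨x, rfl⟩
    refine closure_minimal ?_ (C.2.preimage i⁻¹.left.continuous) (hdense x)
    refine Set.iUnion_subset fun j => ?_
    rintro _ ⟨w, rfl⟩
    obtain ⟨l, v, hv⟩ := hS.inv j
    have e1 : d j ≫ i⁻¹ = v ≫ g l := by rw [hv, GrpObj.comp_inv, hd]
    show i⁻¹.left ((d j).left w) ∈ (C : Set G.left)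
    rw [← Scheme.Hom.comp_apply, ← Over.comp_left, e1, Over.comp_left, Scheme.Hom.comp_apply]
    exact subset_closure (Set.mem_iUnion.2 ⟨l, _, rfl⟩)
  obtain ⟨o, ho⟩ := hone
  obtain ⟨m, hm⟩ := hmul
  obtain ⟨v, hv⟩ := hinv
  obtain ⟨inst, hhom⟩ := Groth.Agf.exists_grpObj_of_subgroup i
    (fun T φ => ∃ z : T ⟶ Γ, z ≫ i = φ) (fun _ _ => Iff.rfl)
    (fun T => ⟨toUnit T ≫ o, by rw [Category.assoc, ho, MonObj.comp_one]⟩)
    (fun T a b ⟨x, hx⟩ ⟨y, hy⟩ => ⟨lift x y ≫ m, by
      rw [Category.assoc, hm, MonObj.comp_mul, lift_fst_assoc, lift_snd_assoc, hx, hy]⟩)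
    (fun T a ⟨x, hx⟩ => ⟨x ≫ v, by rw [Category.assoc, hv, GrpObj.comp_inv, hx]⟩)
  refine ⟨Γ, inst, i, d, hhom, hi, hgeo, hd, hdense, fun Z z hz hZ => ?_⟩
  have hsub : Set.range i.left ⊆ Set.range z.left := by
    rw [hrange]
    refine closure_minimal (Set.iUnion_subset fun j => ?_) z.left.isClosedEmbedding.isClosed_range
    obtain ⟨t, ht⟩ := hZ j
    rw [← ht]
    exact Set.range_comp_subset_range t.left z.left
  obtain ⟨t, ht⟩ := Groth.GrpdImage.exists_factor_of_range_subset z.left i.left hsub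
  exact ⟨Over.homMk t (by rw [← Over.w z, ← Category.assoc, ht, Over.w]), Over.OverMorphism.ext ht⟩

end Groth.GenSub
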