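import Groth.Agent.GenSub.Word
import Groth.Agent.AlgGrp1.Rigidity
import Groth.Agent.Agf.ClosedSubgroup

/-!
Factorisation through a closed subscheme on a product with a reduced scheme carrying a dense family.
-/

set_option autoImplicit false
set_option backward.isDefEq.respectTransparency false

universe u v

open CategoryTheory Limits MonoidalCategory CartesianMonoidalCategory MonObj AlgebraicGeometry
  TopologicalSpace
open Groth.AlgGrp1

namespace Groth.GenSub

variable {k : Type u} [Field k]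

theorem exists_factor_dense {T X G Z : Over (Spec (CommRingCat.of k))} [IsReduced X.left]
    {I : Type v} {A : I → Over (Spec (CommRingCat.of k))} (d : ∀ a, A a ⟶ X)
    (hd : Dense (⋃ a, Set.range (d a).left)) (z : Z ⟶ G) [IsClosedImmersion z.left] (φ : T ⊗ X ⟶ G)
    (h : ∀ a, ∃ t, t ≫ z = (T ◁ d a) ≫ φ) : ∃ t, t ≫ z = φ := by
  obtain ⟨E, c, hc, hE⟩ := Groth.Agf.exists_preimage φ z
  have hfam : ∀ a, ∃ e, e ≫ c = T ◁ d a := fun a => by
    obtain ⟨t, ht⟩ := h a
    exact (hE _ _).2 ⟨t, ht.symm⟩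
  let 𝒱 := X.left.affineOpenCover
  let 𝒰 := Scheme.Pullback.openCoverOfRight 𝒱.openCover T.hom X.hom
  have key : ∀ j : 𝒱.I₀, ∃ m : 𝒰.X j ⟶ E.left, m ≫ c.left = 𝒰.f j := by
    intro j
    obtain ⟨instR, t, ht⟩ := exists_algebra (X := X) (𝒱.f j)
    have : IsOpenImmersion t.left := ht ▸ 𝒱.map_prop j
    have : IsReduced (Spec (𝒱.X j)) := isReduced_of_isOpenImmersion t.left
    have : _root_.IsReduced (𝒱.X j) := by rwa [← affine_isReduced_iff]
    let J := Σ a : I, {U : (A a).left.affineOpens //
      (U.1 : Set (A a).left) ⊆ (d a).left ⁻¹' Set.range t.left}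
    let R' : J → Type u := fun p => Γ((A p.1).left, p.2.1.1)
    let e : ∀ p : J, Spec (CommRingCat.of (R' p)) ⟶ (A p.1).left := fun p => p.2.1.2.fromSpec
    have he : ∀ p : J, Set.range (e p) = (p.2.1.1 : Set (A p.1).left) := fun p => p.2.1.2.range_fromSpec
    let alg : ∀ p : J, Algebra k (R' p) := fun p => (Spec.preimage (e p ≫ (A p.1).hom)).hom.toAlgebra
    have halg : ∀ p, Spec.map (Spec.preimage (e p ≫ (A p.1).hom)) = e p ≫ (A p.1).hom :=
      fun p => Spec.map_preimage _
    let w : ∀ p : J, specAlg k (R' p) ⟶ A p.1 := fun p => Over.homMk (e p) (halg p).symm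
    let l : ∀ p : J, Spec (CommRingCat.of (R' p)) ⟶ Spec (𝒱.X j) := fun p =>
      IsOpenImmersion.lift t.left (e p ≫ (d p.1).left) (by
        rintro _ ⟨q, rfl⟩
        exact p.2.2 ((he p).le ⟨q, rfl⟩))
    have hl : ∀ p, l p ≫ t.left = e p ≫ (d p.1).left := fun p => IsOpenImmersion.lift_fac _ _ _
    have hlk : ∀ p, l p ≫ Spec.map (CommRingCat.ofHom (algebraMap k (𝒱.X j))) = e p ≫ (A p.1).hom := fun p => by
      rw [show Spec.map (CommRingCat.ofHom (algebraMap k (𝒱.X j))) = t.left ≫ X.hom from (Over.w t).symm,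
        ← Category.assoc, hl, Category.assoc, Over.w]
    let f : ∀ p : J, (𝒱.X j) →ₐ[k] R' p := fun p =>
      { (Spec.preimage (l p)).hom with
        commutes' := fun x => by
          have h : CommRingCat.ofHom (algebraMap k (𝒱.X j)) ≫ Spec.preimage (l p) =
              Spec.preimage (e p ≫ (A p.1).hom) := Spec.map_injective (by
            rw [Spec.map_comp, Spec.map_preimage, halg, hlk])
          exact congr($(h).hom x) }
    have hw : ∀ p, specAlgMap (f p) ≫ t = w p ≫ d p.1 := fun p => by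
      ext1
      show Spec.map (CommRingCat.ofHom (f p).toRingHom) ≫ t.left = e p ≫ (d p.1).left
      rw [← hl]
      congr 1
      exact Spec.map_preimage (l p)
    have hf : ∀ a, (∀ p, f p a = 0) → a = 0 := by
      intro a ha
      by_contra hne
      have hopen : (PrimeSpectrum.basicOpen a : Set (PrimeSpectrum (𝒱.X j))).Nonempty := by
        by_contra h
        rw [Set.not_nonempty_iff_eq_empty, TopologicalSpace.Opens.coe_eq_empty,
          PrimeSpectrum.basicOpen_eq_bot_iff] at h
        exact hne h.eq_zero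
      obtain ⟨_, ⟨q, hq, rfl⟩, hmem⟩ := hd.inter_open_nonempty _
        (t.left.isOpenEmbedding.isOpenMap _ (PrimeSpectrum.basicOpen a).isOpen) (hopen.image _)
      obtain ⟨i, y, hy⟩ := Set.mem_iUnion.1 hmem
      obtain ⟨U, hU, hyU, hUW⟩ := (A i).left.isBasis_affineOpens.exists_subset_of_mem_open
        (show y ∈ (d i).left ⁻¹' Set.range t.left from ⟨q, hy.symm⟩)
        (t.left.isOpenEmbedding.isOpen_range.preimage (d i).left.continuous)
      obtain ⟨U, hU', rfl⟩ := hU
      let p : J := ⟨i, ⟨U, hU'⟩, hUW⟩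
      obtain ⟨y', hy'⟩ := (he p).ge hyU
      have hlz : (l p) y' = q := t.left.isOpenEmbedding.injective
        ((congr(($(hl p)) y')).trans ((congrArg (d i).left hy').trans hy))
      rw [← hlz, ← Spec.map_preimage (l p)] at hq
      refine hq ?_
      show (f p) a ∈ (y' : PrimeSpectrum (R' p)).asIdeal
      rw [ha p]
      exact zero_mem _
    obtain ⟨q, hq⟩ := factor_of_jointly_injective c t f hf fun p => by
      obtain ⟨e', he'⟩ := hfam p.1
      exact ⟨(T ◁ w p) ≫ e', by rw [Category.assoc, he', hw, MonoidalCategory.whiskerLeft_comp]⟩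
    obtain ⟨m, hm⟩ := cover_member_right (X := T) t ht (T ◁ t).left rfl
    exact ⟨m ≫ q.left, by
      rw [Category.assoc, ← Over.comp_left, hq]
      exact hm.symm⟩
  choose mm hm using key
  let s : (T ⊗ X).left ⟶ E.left := Scheme.Cover.glueMorphisms 𝒰 mm (fun i j => by
    refine (cancel_mono c.left).1 ?_
    rw [Category.assoc, Category.assoc, hm i, hm j]
    exact pullback.condition)
  have hs : s ≫ c.left = 𝟙 _ := by
    refine 𝒰.hom_ext _ _ fun j => ?_
    refine ((Category.assoc _ _ _).symm.trans ((congrArg (· ≫ c.left) (Scheme.Cover.ι_glueMorphisms _ _ _ j)).trans ?_)).trans (Category.comp_id _).symm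
    exact hm j
  let s' : T ⊗ X ⟶ E := Over.homMk s (by rw [← Over.w c, ← Category.assoc, hs, Category.id_comp])
  obtain ⟨t, ht⟩ := (hE _ _).1 ⟨s', (Over.OverMorphism.ext hs : s' ≫ c = 𝟙 _)⟩
  exact ⟨t, by rw [← ht, Category.id_comp]⟩

end Groth.GenSub
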