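import Groth.Agent.GenSub.Basic
import Groth.Agent.Agf.ImageSubgroup
import Groth.Agent.Calg2.ProConsCriteria

/-!
A dominant stable quasi-compact map onto a group scheme over a field is surjective.
-/

set_option autoImplicit false


universe u

open CategoryTheory Limits MonoidalCategory CartesianMonoidalCategory MonObj AlgebraicGeometry
  TopologicalSpace
open Groth.Agf

namespace Groth.GenSub

variable {k : Type u} [Field k]

/-- Every point of a group scheme over a field is the product of two points of a dense open. -/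
theorem exists_mul_of_dense_open (K : Over (Spec (CommRingCat.of k))) [GrpObj K] (U : K.left.Opens)
    (hU : Dense (U : Set K.left)) (x : K.left) :
    ∃ q : (K ⊗ K).left, (fst K K).left q ∈ U ∧ (snd K K).left q ∈ U ∧ μ[K].left q = x := by
  obtain ⟨T, xT, hxT⟩ : ∃ (T : Over (Spec (CommRingCat.of k))) (xT : T ⟶ K),
      Set.range xT.left = {x} := ⟨resObj x, resPt x, range_resPt x⟩
  obtain ⟨Φ, Ψ, hΨΦ, hΦ⟩ : ∃ Φ Ψ : K ⊗ T ⟶ K ⊗ T, Ψ ≫ Φ = 𝟙 _ ∧
      lift (Φ ≫ fst K T) (fst K T) ≫ μ[K] = snd K T ≫ xT := by
    refine ⟨lift ((snd K T ≫ xT) * (fst K T)⁻¹) (snd K T),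
      lift ((fst K T)⁻¹ * (snd K T ≫ xT)) (snd K T), ?_, ?_⟩
    · simp only [comp_lift, MonObj.comp_mul, GrpObj.comp_inv, lift_fst, lift_snd_assoc, lift_snd]
      simp [_root_.mul_inv_rev]
    · rw [← Hom.mul_def, lift_fst, inv_mul_cancel_right]
  obtain ⟨t, -⟩ : x ∈ Set.range xT.left := hxT.ge rfl
  obtain ⟨a₀, -, -⟩ := Scheme.Pullback.exists_preimage_pullback (f := K.hom) (g := T.hom)
    ((η : 𝟙_ (Over (Spec (CommRingCat.of k))) ⟶ K).left (T.hom t)) t (Subsingleton.elim _ _)
  haveI := Groth.DescentBase.universallyOpen_of_field k T.hom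
  haveI : UniversallyOpen (fst K T).left := MorphismProperty.pullback_fst _ _ ‹_›
  let O : (K ⊗ T).left.Opens := (fst K T).left ⁻¹ᵁ U
  have hO : Dense (O : Set (K ⊗ T).left) := hU.preimage (fst K T).left.isOpenMap
  have hO' : IsOpen (Φ.left ⁻¹' (O : Set (K ⊗ T).left)) := O.2.preimage Φ.left.continuous
  have hne : (Φ.left ⁻¹' (O : Set (K ⊗ T).left)).Nonempty := by
    haveI : Nonempty (K ⊗ T).left := ⟨a₀⟩
    obtain ⟨z, hz⟩ := hO.nonempty
    refine ⟨Ψ.left z, ?_⟩
    show Φ.left (Ψ.left z) ∈ O
    rw [← Scheme.Hom.comp_apply, ← Over.comp_left, hΨΦ]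
    exact hz
  obtain ⟨z, hz1, hz2⟩ := hO.inter_open_nonempty _ hO' hne
  let q := (lift (Φ ≫ fst K T) (fst K T)).left z
  refine ⟨q, ?_, ?_, ?_⟩
  · rw [← Scheme.Hom.comp_apply, ← Over.comp_left, lift_fst, Over.comp_left, Scheme.Hom.comp_apply]
    exact hz1
  · rw [← Scheme.Hom.comp_apply, ← Over.comp_left, lift_snd]
    exact hz2
  · rw [← Scheme.Hom.comp_apply, ← Over.comp_left, hΦ, Over.comp_left, Scheme.Hom.comp_apply]
    exact hxT.le ⟨_, rfl⟩

/-- A dominant quasi-compact morphism whose image is stable under products is surjective. -/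
theorem surjective_of_dense_stable (K Y : Over (Spec (CommRingCat.of k))) [GrpObj K]
    [LocallyOfFiniteType K.hom] [LocallyOfFiniteType Y.hom] (φ : Y ⟶ K) [QuasiCompact φ.left]
    (hd : Dense (Set.range φ.left)) (m : Y ⊗ Y ⟶ Y) (hm : m ≫ φ = (φ ⊗ₘ φ) ≫ μ[K]) :
    Function.Surjective φ.left := by
  haveI : IsLocallyNoetherian K.left := LocallyOfFiniteType.isLocallyNoetherian K.hom
  haveI : LocallyOfFiniteType φ.left := by
    haveI : LocallyOfFiniteType (φ.left ≫ K.hom) := by rw [Over.w φ]; infer_instance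
    exact locallyOfFiniteType_of_comp φ.left K.hom
  haveI : LocallyOfFinitePresentation φ.left := inferInstance
  have hc : ProCons.IsIndConstructible (Set.range φ.left) := by
    rw [← Set.image_univ]
    exact Groth.Calg2.ProCons.isIndConstructible_image φ.left
      fun x => ⟨Set.univ, isOpen_univ, trivial, {Set.univ}, by
        rintro _ rfl
        exact Topology.IsLocallyConstructible.univ, by simp⟩
  let U : K.left.Opens := ⟨interior (Set.range φ.left), isOpen_interior⟩
  have hU : Dense (U : Set K.left) := by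
    intro y
    have hC : IsIrreducible (irreducibleComponent y) := isIrreducible_irreducibleComponent
    have hg : IsGenericPoint hC.genericPoint (irreducibleComponent y) := by
      have := hC.isGenericPoint_genericPoint_closure
      rwa [isClosed_irreducibleComponent.closure_eq] at this
    have hmax : ∀ z, z ⤳ hC.genericPoint → z = hC.genericPoint := fun z hz => by
      have hsub : irreducibleComponent y ⊆ closure {z} := by
        rw [← hg.def]
        exact closure_minimal (by simpa using specializes_iff_mem_closure.1 hz) isClosed_closure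
      have heq := eq_irreducibleComponent isIrreducible_singleton.closure.isPreirreducible hsub
      exact IsGenericPoint.eq (heq : closure {z} = irreducibleComponent y) hg
    have hmem : hC.genericPoint ∈ U := by
      refine Groth.Calg2.ProCons.mem_interior_of_generizations hc fun x' hx' => ?_
      rw [hmax x' hx']
      obtain ⟨a, ha⟩ := SchemeMorphisms.exists_specializes_of_mem_closure_range φ.left
        (s := hC.genericPoint) (hd _)
      exact ⟨a, hmax _ ha⟩
    exact (hg.specializes mem_irreducibleComponent).mem_closed isClosed_closure (subset_closure hmem)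
  intro x
  obtain ⟨q, hq1, hq2, hq⟩ := exists_mul_of_dense_open K U hU x
  obtain ⟨a, ha⟩ := interior_subset hq1
  obtain ⟨b, hb⟩ := interior_subset hq2
  obtain ⟨p, hp, -⟩ := Scheme.exists_preimage_of_isPullback (AlgGrp2.isPullback_whiskerRight_fst K φ) q a ha.symm
  have hpb : (snd Y K).left p = φ.left b := by
    rw [hb, ← hp, ← Scheme.Hom.comp_apply, ← Over.comp_left, whiskerRight_snd]
  obtain ⟨r, hr, -⟩ := Scheme.exists_preimage_of_isPullback (AlgGrp2.isPullback_whiskerLeft_snd Y φ) p b hpb
  refine ⟨m.left r, ?_⟩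
  rw [← hq, ← hp, ← hr, ← Scheme.Hom.comp_apply, ← Scheme.Hom.comp_apply, ← Scheme.Hom.comp_apply,
    ← Over.comp_left, ← Over.comp_left, ← Over.comp_left, hm, tensorHom_def', Category.assoc]

end Groth.GenSub
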